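import Cfsg.Agent.Helper40.SL2Hom

/-!
Helper18: an abstract form of Steinberg's argument for the generation of a group of Lie type of rank two by two elements.

Data: rank one root elements `x, y : F → Γ` with Steinberg's relations (`Rel x y`), `w = w(1)`; an element `h` acting on
`x(t)` through `α`, on `y(t)` through `α⁻¹`, where `α` generates `F*`; an element `s` commuting with `h` (the other
fundamental reflection) and an element `e` of order prime to that of `h`, commuting with `h` (a root element of the other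
fundamental root subgroup). Then the subgroup generated by `h e` and `x(1) w s` contains `h`, `e`, all `x(t)` and `w s`.
-/

set_option autoImplicit false

namespace Cfsg.Agent.Helper18.Gen

open Cfsg.Agent.Helper40.SL2Hom

variable {F : Type*} [Field F] {Γ : Type*} [Group Γ]

/-- commuting elements of coprime orders are powers of their product -/
theorem mem_of_mul_mem_coprime (L : Subgroup Γ) (h e : Γ) (hc : Commute h e) (N p : ℕ) (hN : h ^ N = 1)
    (hp : e ^ p = 1) (hcop : Nat.Coprime N p) (hL : h * e ∈ L) : h ∈ L ∧ e ∈ L := by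
  have h1 : (h * e) ^ N = e ^ N := by rw [hc.mul_pow, hN, one_mul]
  have h2 : e ^ N ∈ L := by rw [← h1]; exact L.pow_mem hL N
  -- `e` is a power of `e ^ N`
  have h3 : e ∈ L := by
    have hgcd : (Int.gcd (N : ℤ) (p : ℤ)) = 1 := by
      rw [Int.gcd_natCast_natCast]; exact hcop
    have hb := Int.gcd_eq_gcd_ab (N : ℤ) (p : ℤ)
    rw [hgcd] at hb
    have : e = (e ^ N) ^ (Int.gcdA (N : ℤ) (p : ℤ)) * (e ^ p) ^ (Int.gcdB (N : ℤ) (p : ℤ)) := by
      rw [← zpow_natCast e N, ← zpow_natCast e p, ← zpow_mul, ← zpow_mul, ← zpow_add]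
      have : (N : ℤ) * Int.gcdA (N : ℤ) (p : ℤ) + (p : ℤ) * Int.gcdB (N : ℤ) (p : ℤ) = 1 := by
        rw [← hb]; simp
      rw [this, zpow_one]
    rw [this, hp, one_zpow, mul_one]
    exact L.zpow_mem h2 _
  refine ⟨?_, h3⟩
  have : h = h * e * e⁻¹ := by group
  rw [this]
  exact L.mul_mem hL (L.inv_mem h3)

section

variable {x y : F → Γ} (R : Rel x y) (hh : Γ) (α : F)
  (hx : ∀ t, hh * x t * hh⁻¹ = x (α * t)) (hy : ∀ t, hh * y t * hh⁻¹ = y (α⁻¹ * t))

include hx hy in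
/-- `h w(t) h⁻¹ = w(α t)` -/
theorem conj_w (_hα : α ≠ 0) (t : F) (_ht : t ≠ 0) : hh * w x y t * hh⁻¹ = w x y (α * t) := by
  unfold w
  have e : hh * (x t * y (-t⁻¹) * x t) * hh⁻¹ = (hh * x t * hh⁻¹) * (hh * y (-t⁻¹) * hh⁻¹) * (hh * x t * hh⁻¹) := by
    group
  rw [e, hx, hy]
  congr 2
  field_simp

include hx hy in
/-- `w h w⁻¹ = h(α)⁻¹ h` -/
theorem conj_by_w (hα : α ≠ 0) : w x y 1 * hh * (w x y 1)⁻¹ = (h x y α)⁻¹ * hh := by
  have h1 := conj_w hh α hx hy hα 1 one_ne_zero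
  rw [mul_one] at h1
  -- `h w h⁻¹ = w(α) = h(α) w`
  have h2 : w x y α = h x y α * w x y 1 := (Rel.h_mul_n (x := x) (y := y) α).symm
  rw [h2] at h1
  -- `w h⁻¹ w⁻¹ = h⁻¹ h(α)`
  have h3 : w x y 1 * hh⁻¹ * (w x y 1)⁻¹ = hh⁻¹ * h x y α := by
    have : h x y α = hh * w x y 1 * hh⁻¹ * (w x y 1)⁻¹ := by rw [h1]; group
    rw [this]; group
  have h4 : w x y 1 * hh * (w x y 1)⁻¹ = (w x y 1 * hh⁻¹ * (w x y 1)⁻¹)⁻¹ := by group
  rw [h4, h3]
  group

variable (s e : Γ) (hs : Commute hh s) (he : Commute hh e) (N p : ℕ) (hN : hh ^ N = 1) (hp : e ^ p = 1)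
  (hcop : Nat.Coprime N p) (hα0 : α ≠ 0) (hα1 : α ≠ 1) (hgen : ∀ z : F, z ≠ 0 → ∃ j : ℕ, z = α ^ j)

include R hx hy hs he hN hp hcop hα0 hα1 hgen in
/-- Steinberg's argument -/
theorem gen_step (L : Subgroup Γ) (h1 : hh * e ∈ L) (h2 : x 1 * (w x y 1 * s) ∈ L) :
    hh ∈ L ∧ e ∈ L ∧ (∀ t, x t ∈ L) ∧ w x y 1 * s ∈ L := by
  obtain ⟨hhL, heL⟩ := mem_of_mul_mem_coprime L hh e he N p hN hp hcop h1
  -- the commutator `[h, b]`
  set b := x 1 * (w x y 1 * s) with hb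
  have hconjb : hh * b * hh⁻¹ = x α * (w x y α * s) := by
    have e1 : hh * b * hh⁻¹ = (hh * x 1 * hh⁻¹) * ((hh * w x y 1 * hh⁻¹) * (hh * s * hh⁻¹)) := by
      rw [hb]; group
    have e2 : hh * s * hh⁻¹ = s := by rw [hs.eq]; group
    rw [e1, hx, conj_w hh α hx hy hα0 1 one_ne_zero, e2, mul_one]
  set c₁ := hh * b * hh⁻¹ * b⁻¹ with hc₁
  have hc₁L : c₁ ∈ L := L.mul_mem (L.mul_mem (L.mul_mem hhL h2) (L.inv_mem hhL)) (L.inv_mem h2)
  have hc₁eq : c₁ = x α * h x y α * (x 1)⁻¹ := by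
    rw [hc₁, hconjb, hb]
    unfold h
    group
  have hc₁eq' : c₁ = x (α - α * α) * h x y α := by
    rw [hc₁eq, ← R.x_neg, mul_assoc, R.h_x' α (-1) hα0, ← mul_assoc, ← R.x_add]
    congr 2
    ring
  -- `h` commutes with `h(α)`
  have hcomm : hh * h x y α * hh⁻¹ = h x y α := by
    have e0 : hh * h x y α * hh⁻¹ = (hh * w x y α * hh⁻¹) * (hh * w x y 1 * hh⁻¹)⁻¹ := by
      unfold h; group
    rw [e0, conj_w hh α hx hy hα0 α hα0, conj_w hh α hx hy hα0 1 one_ne_zero, mul_one]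
    have e2 : w x y (α * α) = h x y (α * α) * w x y 1 := (Rel.h_mul_n (x := x) (y := y) _).symm
    have e3 : w x y α = h x y α * w x y 1 := (Rel.h_mul_n (x := x) (y := y) _).symm
    rw [e2, e3, R.h_mul α α hα0 hα0]
    group
  set c₂ := hh * c₁ * hh⁻¹ * c₁⁻¹ with hc₂
  have hc₂L : c₂ ∈ L := L.mul_mem (L.mul_mem (L.mul_mem hhL hc₁L) (L.inv_mem hhL)) (L.inv_mem hc₁L)
  set c : F := α * (α - α * α) - (α - α * α) with hc
  have hc₂eq : c₂ = x c := by
    have e1 : hh * c₁ * hh⁻¹ = x (α * (α - α * α)) * h x y α := by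
      have : hh * c₁ * hh⁻¹ = (hh * x (α - α * α) * hh⁻¹) * (hh * h x y α * hh⁻¹) := by rw [hc₁eq']; group
      rw [this, hx, hcomm]
    rw [hc₂, e1, hc₁eq', mul_inv_rev, ← R.x_neg]
    have : x (α * (α - α * α)) * h x y α * ((h x y α)⁻¹ * x (-(α - α * α))) =
        x (α * (α - α * α)) * x (-(α - α * α)) := by group
    rw [this, ← R.x_add, hc]
    congr 1
    ring
  have hc0 : c ≠ 0 := by
    have : c = -(α * (α - 1) ^ 2) := by rw [hc]; ring
    rw [this]
    exact neg_ne_zero.mpr (mul_ne_zero hα0 (pow_ne_zero 2 (sub_ne_zero.mpr hα1)))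
  have hxcL : x c ∈ L := by rw [← hc₂eq]; exact hc₂L
  have hpow : ∀ j : ℕ, hh ^ j * x c * (hh ^ j)⁻¹ = x (α ^ j * c) := by
    intro j
    induction j with
    | zero => simp
    | succ j ih =>
      have : hh ^ (j + 1) * x c * (hh ^ (j + 1))⁻¹ = hh * (hh ^ j * x c * (hh ^ j)⁻¹) * hh⁻¹ := by
        rw [pow_succ']; group
      rw [this, ih, hx]
      congr 1
      ring
  have hxL : ∀ t, x t ∈ L := by
    intro t
    by_cases ht : t = 0
    · rw [ht, R.x_zero]; exact L.one_mem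
    obtain ⟨j, hj⟩ := hgen (t / c) (div_ne_zero ht hc0)
    have : t = α ^ j * c := by rw [← hj]; field_simp
    rw [this, ← hpow j]
    exact L.mul_mem (L.mul_mem (L.pow_mem hhL j) hxcL) (L.inv_mem (L.pow_mem hhL j))
  refine ⟨hhL, heL, hxL, ?_⟩
  have : w x y 1 * s = (x 1)⁻¹ * b := by rw [hb]; group
  rw [this]
  exact L.mul_mem (L.inv_mem (hxL 1)) h2

end

end Cfsg.Agent.Helper18.Gen
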