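import Cfsg.Agent.Helper18.Gen.Abs

/-!
Helper18: a second abstract form of Steinberg's argument for the generation of a group of Lie type by two elements, in
which the element `m` of `N` (a representative of the Coxeter element) is arbitrary: all that is used is that the torus
element `k = h m h⁻¹ m⁻¹` commutes with `h` and acts on the root subgroup `x` through a scalar `β` different from the
scalar `α` through which `h` acts.
-/

set_option autoImplicit false

namespace Cfsg.Agent.Helper18.Gen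

open Cfsg.Agent.Helper40.SL2Hom

variable {F : Type*} [Field F] {Γ : Type*} [Group Γ]

theorem add_zero' {x : F → Γ} (hadd : ∀ s t, x (s + t) = x s * x t) : x 0 = 1 := by
  have h := hadd 0 0
  rw [add_zero] at h
  exact (mul_eq_left.mp h.symm)

theorem add_neg' {x : F → Γ} (hadd : ∀ s t, x (s + t) = x s * x t) (t : F) : x (-t) = (x t)⁻¹ := by
  have h := hadd t (-t)
  rw [add_neg_cancel, add_zero' hadd] at h
  exact eq_inv_of_mul_eq_one_right h.symm

/-- Steinberg's argument, second form -/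
theorem gen_step' {x : F → Γ} (hadd : ∀ s t, x (s + t) = x s * x t)
    (hh : Γ) (α β : F) (hx : ∀ t, hh * x t * hh⁻¹ = x (α * t))
    (m : Γ) (hk : ∀ t, (hh * m * hh⁻¹ * m⁻¹) * x t * (hh * m * hh⁻¹ * m⁻¹)⁻¹ = x (β * t))
    (hkc : Commute hh (hh * m * hh⁻¹ * m⁻¹))
    (e : Γ) (he : Commute hh e) (N p : ℕ) (hN : hh ^ N = 1) (hp : e ^ p = 1) (hcop : Nat.Coprime N p)
    (hα1 : α ≠ 1) (hαβ : α ≠ β) (hgen : ∀ z : F, z ≠ 0 → ∃ j : ℕ, z = α ^ j)
    (L : Subgroup Γ) (h1 : hh * e ∈ L) (h2 : x 1 * m ∈ L) :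
    hh ∈ L ∧ e ∈ L ∧ (∀ t, x t ∈ L) ∧ m ∈ L := by
  obtain ⟨hhL, heL⟩ := mem_of_mul_mem_coprime L hh e he N p hN hp hcop h1
  set b := x 1 * m with hb
  set k := hh * m * hh⁻¹ * m⁻¹ with hkdef
  have hconjb : hh * b * hh⁻¹ = x α * (k * m) := by
    have e1 : hh * b * hh⁻¹ = (hh * x 1 * hh⁻¹) * (hh * m * hh⁻¹ * m⁻¹ * m) := by
      rw [hb]; group
    rw [e1, hx, mul_one]
  set c₁ := hh * b * hh⁻¹ * b⁻¹ with hc₁
  have hc₁L : c₁ ∈ L := L.mul_mem (L.mul_mem (L.mul_mem hhL h2) (L.inv_mem hhL)) (L.inv_mem h2)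
  have hkx : ∀ t, k * x t = x (β * t) * k := by
    intro t
    rw [← hk t]; group
  have hc₁eq : c₁ = x (α - β) * k := by
    have e1 : c₁ = x α * (k * (x 1)⁻¹) := by
      rw [hc₁, hconjb, hb]; group
    rw [e1, ← add_neg' hadd, hkx, mul_neg, mul_one, ← mul_assoc, ← hadd, sub_eq_add_neg]
  set c₂ := hh * c₁ * hh⁻¹ * c₁⁻¹ with hc₂
  have hc₂L : c₂ ∈ L := L.mul_mem (L.mul_mem (L.mul_mem hhL hc₁L) (L.inv_mem hhL)) (L.inv_mem hc₁L)
  set c : F := α * (α - β) - (α - β) with hc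
  have hkconj : hh * k * hh⁻¹ = k := by
    rw [hkc.eq]; group
  have hc₂eq : c₂ = x c := by
    have e1 : hh * c₁ * hh⁻¹ = x (α * (α - β)) * k := by
      have : hh * c₁ * hh⁻¹ = (hh * x (α - β) * hh⁻¹) * (hh * k * hh⁻¹) := by rw [hc₁eq]; group
      rw [this, hx, hkconj]
    rw [hc₂, e1, hc₁eq, mul_inv_rev, ← add_neg' hadd]
    have : x (α * (α - β)) * k * (k⁻¹ * x (-(α - β))) = x (α * (α - β)) * x (-(α - β)) := by group
    rw [this, ← hadd, hc]
    congr 1
    ring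
  have hc0 : c ≠ 0 := by
    have : c = (α - 1) * (α - β) := by rw [hc]; ring
    rw [this]
    exact mul_ne_zero (sub_ne_zero.mpr hα1) (sub_ne_zero.mpr hαβ)
  have hxcL : x c ∈ L := by rw [← hc₂eq]; exact hc₂L
  have hpow : ∀ j : ℕ, hh ^ j * x c * (hh ^ j)⁻¹ = x (α ^ j * c) := by
    intro j
    induction j with
    | zero => simp
    | succ j ih =>
      have : hh ^ (j + 1) * x c * (hh ^ (j + 1))⁻¹ = hh * (hh ^ j * x c * (hh ^ j)⁻¹) * hh⁻¹ := by
        rw [pow_succ']; group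
      rw [this, ih, hx]
      congr 1
      ring
  have hxL : ∀ t, x t ∈ L := by
    intro t
    by_cases ht : t = 0
    · rw [ht, add_zero' hadd]; exact L.one_mem
    obtain ⟨j, hj⟩ := hgen (t / c) (div_ne_zero ht hc0)
    have : t = α ^ j * c := by rw [← hj]; field_simp
    rw [this, ← hpow j]
    exact L.mul_mem (L.mul_mem (L.pow_mem hhL j) hxcL) (L.inv_mem (L.pow_mem hhL j))
  refine ⟨hhL, heL, hxL, ?_⟩
  have : m = (x 1)⁻¹ * b := by rw [hb]; group
  rw [this]
  exact L.mul_mem (L.inv_mem (hxL 1)) h2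

/-- powers of `h(c)` -/
theorem h_pow {x y : F → Γ} (R : Rel x y) (c : F) (hc : c ≠ 0) (n : ℕ) : (h x y c) ^ n = h x y (c ^ n) := by
  induction n with
  | zero =>
    rw [pow_zero, pow_zero]
    unfold h
    rw [mul_inv_cancel]
  | succ n ih =>
    rw [pow_succ, ih, pow_succ, R.h_mul _ _ (pow_ne_zero n hc) hc]

/-- `h(c)` has order dividing `|F| - 1` -/
theorem h_pow_card {x y : F → Γ} [Fintype F] (R : Rel x y) (c : F) (hc : c ≠ 0) :
    (h x y c) ^ (Fintype.card F - 1) = 1 := by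
  rw [h_pow R c hc, FiniteField.pow_card_sub_one_eq_one c hc]
  unfold h
  rw [mul_inv_cancel]

end Cfsg.Agent.Helper18.Gen
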